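import Groth.Agent.Lib.BiratH0.Forms
import Groth.Agent.Lib.DVRDom.Center
import Groth.Agent.Lib.DVRDom.Extend
import Groth.Agent.Lib.OX.RHomDual
import Groth.Agent.Lib.OX.FibreRank
import Groth.Agent.S12422

/-!
# Birational invariance of spaces of forms
-/

set_option autoImplicit false
set_option linter.style.haveILetI false
set_option linter.unusedSectionVars false
set_option backward.isDefEq.respectTransparency false

universe u

open CategoryTheory CategoryTheory.Limits Opposite AlgebraicGeometry TopologicalSpace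

noncomputable section

namespace GrothLib.BiratH0

open Ref1

variable {X X' W : Scheme.{u}} [IsIntegral X] [IsIntegral X'] [IsIntegral W]

/-- The map of function fields of an open immersion. -/
def ffIso (i : W ⟶ X) [IsOpenImmersion i] :
    X.presheaf.stalk (genericPoint X) →+* W.presheaf.stalk (genericPoint W) :=
  (X.presheaf.stalkSpecializes (specializes_of_eq (genericPoint_eq_of_isOpenImmersion i)) ≫
    i.stalkMap (genericPoint W)).hom

theorem ffIso_bijective (i : W ⟶ X) [IsOpenImmersion i] : Function.Bijective (ffIso i) := by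
  have h : IsIso (X.presheaf.stalkSpecializes (specializes_of_eq (genericPoint_eq_of_isOpenImmersion i))) :=
    (X.presheaf.stalkCongr (Inseparable.of_eq (genericPoint_eq_of_isOpenImmersion i))).symm.isIso_hom
  exact ConcreteCategory.bijective_of_isIso
    (X.presheaf.stalkSpecializes (specializes_of_eq (genericPoint_eq_of_isOpenImmersion i)) ≫
      i.stalkMap (genericPoint W))

theorem ffIso_germ (i : W ⟶ X) [IsOpenImmersion i] (U : X.Opens) (hU : genericPoint X ∈ U) (s : Γ(X, U)) :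
    ∃ hW : genericPoint W ∈ i ⁻¹ᵁ U,
      ffIso i (X.presheaf.germ U (genericPoint X) hU s) = W.presheaf.germ (i ⁻¹ᵁ U) (genericPoint W) hW (i.app U s) := by
  have hW : genericPoint W ∈ i ⁻¹ᵁ U := by
    show i (genericPoint W) ∈ U
    rw [genericPoint_eq_of_isOpenImmersion i]; exact hU
  refine ⟨hW, ?_⟩
  show (i.stalkMap (genericPoint W)).hom ((X.presheaf.stalkSpecializes _).hom (X.presheaf.germ U _ hU s)) = _
  rw [← CommRingCat.comp_apply, ← CommRingCat.comp_apply]
  rw [TopCat.Presheaf.germ_stalkSpecializes_assoc, Scheme.Hom.germ_stalkMap]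
  rfl

/-- The isomorphism of function fields of a common open. -/
def ffEquiv (i : W ⟶ X) [IsOpenImmersion i] (g : W ⟶ X') [IsOpenImmersion g] :
    X'.presheaf.stalk (genericPoint X') ≃+* X.presheaf.stalk (genericPoint X) :=
  (RingEquiv.ofBijective (ffIso g) (ffIso_bijective g)).trans
    (RingEquiv.ofBijective (ffIso i) (ffIso_bijective i)).symm

theorem germ_app_congr {T : Scheme.{u}} {a b : W ⟶ T} (e : a = b) (V : T.Opens) (c : Γ(T, V))
    (ha : genericPoint W ∈ a ⁻¹ᵁ V) (hb : genericPoint W ∈ b ⁻¹ᵁ V) :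
    W.presheaf.germ (a ⁻¹ᵁ V) _ ha (a.app V c) = W.presheaf.germ (b ⁻¹ᵁ V) _ hb (b.app V c) := by
  subst e; rfl

theorem overBase_ffEquiv {S : Scheme.{u}} {f : X ⟶ S} {f' : X' ⟶ S} (i : W ⟶ X) [IsOpenImmersion i]
    (g : W ⟶ X') [IsOpenImmersion g] (h : i ≫ f = g ≫ f') :
    OverBase f f' (ffEquiv i g).toRingHom := by
  intro V c hV'
  obtain ⟨hg, eg⟩ := ffIso_germ g (f' ⁻¹ᵁ V) hV' (f'.app V c)
  have hi' : genericPoint W ∈ (i ≫ f) ⁻¹ᵁ V := by rw [h]; exact hg
  have hV : genericPoint X ∈ f ⁻¹ᵁ V := by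
    rw [← genericPoint_eq_of_isOpenImmersion i]; exact hi'
  refine ⟨hV, (ffIso_bijective i).1 ?_⟩
  obtain ⟨hi, ei⟩ := ffIso_germ i (f ⁻¹ᵁ V) hV (f.app V c)
  rw [ei]
  refine Eq.trans ?_ ((eg.trans (germ_app_congr h.symm V c hg hi)).trans ?_)
  · exact (RingEquiv.ofBijective (ffIso i) (ffIso_bijective i)).apply_symm_apply _
  · rfl

variable (k : Type u) [Field k] [X.Over (Spec (CommRingCat.of k))] [X'.Over (Spec (CommRingCat.of k))]

theorem constHom_eq (c : k) : constHom k X c =
    X.presheaf.germ ((X ↘ Spec (CommRingCat.of k)) ⁻¹ᵁ ⊤) (genericPoint X) trivial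
      ((X ↘ Spec (CommRingCat.of k)).app ⊤ ((Scheme.ΓSpecIso (CommRingCat.of k)).inv c)) := rfl

theorem map_constHom {σ : X'.presheaf.stalk (genericPoint X') →+* X.presheaf.stalk (genericPoint X)}
    (hσ : OverBase (X ↘ Spec (CommRingCat.of k)) (X' ↘ Spec (CommRingCat.of k)) σ) (c : k) :
    σ (constHom k X' c) = constHom k X c := by
  obtain ⟨_, e⟩ := hσ ⊤ ((Scheme.ΓSpecIso (CommRingCat.of k)).inv c) trivial
  rw [constHom_eq, constHom_eq]
  exact e

/-- Every discrete valuation ring of `X` dominates a local ring of the proper `X'`. -/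
theorem exists_below [IsLocallyNoetherian X] (hX : Pi1.IsNormalScheme X)
    [IsProper (X' ↘ Spec (CommRingCat.of k))]
    {σ : X'.presheaf.stalk (genericPoint X') →+* X.presheaf.stalk (genericPoint X)}
    (hσ : OverBase (X ↘ Spec (CommRingCat.of k)) (X' ↘ Spec (CommRingCat.of k)) σ) (x : X)
    (hx : ringKrullDim (X.presheaf.stalk x) = 1) : ∃ x', Below σ x' x := by
  haveI : IsDomain (X.presheaf.stalk x) := (hX x).1
  haveI := Ref1.isRegularLocalRing_of_dim_le_one hX (x := x) hx.le
  haveI := DVRDom.valuationRing_of_isRegularLocalRing (X.presheaf.stalk x) hx.le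
  let A := X.presheaf.stalk x
  let R : ValuationSubring X'.functionField :=
    { ((spR (hη x)).range.comap σ) with
      mem_or_inv_mem' := fun a => by
        have h2 := ValuationRing.isInteger_or_isInteger (R := A) (K := X.functionField) (σ a)
        rcases h2 with ⟨b, hb⟩ | ⟨b, hb⟩
        · exact Or.inl ⟨b, hb⟩
        · refine Or.inr ⟨b, hb.trans ?_⟩
          exact (map_inv₀ (show X'.functionField →+* X.functionField from σ) a).symm }
  let f' := X' ↘ Spec (CommRingCat.of k)
  let y := f' (genericPoint X')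
  let φ : (Spec (CommRingCat.of k)).presheaf.stalk y →+* X'.functionField :=
    ((Spec (CommRingCat.of k)).presheaf.stalkSpecializes (specializes_refl y) ≫ f'.stalkMap (genericPoint X')).hom
  have hmem : ∀ a, φ a ∈ R := fun a => by
    obtain ⟨V, hV, c, rfl⟩ := TopCat.Presheaf.exists_germ_eq (Spec (CommRingCat.of k)).presheaf a
    obtain ⟨hV', e⟩ := hσ V c hV
    show σ ((f'.stalkMap _).hom (((Spec (CommRingCat.of k)).presheaf.stalkSpecializes _).hom
      ((Spec (CommRingCat.of k)).presheaf.germ V y hV c))) ∈ (spR (hη x)).range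
    rw [TopCat.Presheaf.stalkSpecializes_refl]
    have hVtop : x ∈ (X ↘ Spec (CommRingCat.of k)) ⁻¹ᵁ V := by
      haveI : Subsingleton ↥(Spec (CommRingCat.of k)) := inferInstanceAs (Subsingleton (PrimeSpectrum k))
      show (X ↘ Spec (CommRingCat.of k)) x ∈ V
      rw [Subsingleton.elim ((X ↘ Spec (CommRingCat.of k)) x) y]
      exact hV
    refine ⟨X.presheaf.germ _ x hVtop ((X ↘ Spec (CommRingCat.of k)).app V c), ?_⟩
    rw [spR_germ]
    refine e.symm.trans (congrArg σ ?_)
    exact (ConcreteCategory.congr_hom (f'.germ_stalkMap V (genericPoint X') hV) c).symm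
  haveI : IsLocalHom (φ.codRestrict R.toSubring hmem) := by
    refine ⟨fun a ha => ?_⟩
    by_contra hna
    have h0 : φ a = 0 := by
      have hF : IsField ((Spec (CommRingCat.of k)).presheaf.stalk y) :=
        OX.isField_stalk_spec (CommRingCat.of k) (Field.toIsField k) y
      by_cases h : a = 0
      · rw [h, map_zero]
      · obtain ⟨b, hb⟩ := hF.mul_inv_cancel h
        exact absurd (IsUnit.of_mul_eq_one b hb) hna
    have : (φ.codRestrict R.toSubring hmem) a = 0 := Subtype.ext h0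
    rw [this] at ha
    exact not_isUnit_zero ha
  obtain ⟨x', hx'⟩ := DVRDom.exists_center f' R y (specializes_refl y)
    (DVRDom.dominates_of_isLocalHom R φ hmem)
  exact ⟨x', fun a => hx'.1 a⟩

/-- Tensor products of bundles are bundles. -/
theorem isFinLocFree_tensorMod {Z : Scheme.{u}} {M N : Z.Modules} (hM : FlatMod.IsFinLocFree M)
    (hN : FlatMod.IsFinLocFree N) : FlatMod.IsFinLocFree (CohB1.tensorMod M N) :=
  OX.isFinLocFree_tensor hM hN

/-- The step from a tensor power to the next one. -/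
theorem exists_comparison_step
    {σ : X'.presheaf.stalk (genericPoint X') →+* X.presheaf.stalk (genericPoint X)}
    {τ : X.presheaf.stalk (genericPoint X) →+* X'.presheaf.stalk (genericPoint X')}
    {L : X.Modules} {L' : X'.Modules} (A : X.Modules) (A' : X'.Modules)
    (hA : FlatMod.IsFinLocFree A) (hA' : FlatMod.IsFinLocFree A')
    (hL : FlatMod.IsFinLocFree L) (hL' : FlatMod.IsFinLocFree L')
    {P : A'.presheaf.stalk (genericPoint X') →ₛₗ[σ] A.presheaf.stalk (genericPoint X)}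
    {Q : A.presheaf.stalk (genericPoint X) →ₛₗ[τ] A'.presheaf.stalk (genericPoint X')}
    (hP : Maps A' A P) (hQ : Maps A A' Q) (hPQ : ∀ v, P (Q v) = v) (hQP : ∀ v, Q (P v) = v)
    {w : L'.presheaf.stalk (genericPoint X') →ₛₗ[σ] L.presheaf.stalk (genericPoint X)}
    {z : L.presheaf.stalk (genericPoint X) →ₛₗ[τ] L'.presheaf.stalk (genericPoint X')}
    (hw : Maps L' L w) (hz : Maps L L' z) (hwz : ∀ v, w (z v) = v) (hzw : ∀ v, z (w v) = v) :
    FlatMod.IsFinLocFree (CohB1.tensorMod A L) ∧ FlatMod.IsFinLocFree (CohB1.tensorMod A' L') ∧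
      ∃ (R : (CohB1.tensorMod A' L').presheaf.stalk (genericPoint X') →ₛₗ[σ]
          (CohB1.tensorMod A L).presheaf.stalk (genericPoint X))
        (T : (CohB1.tensorMod A L).presheaf.stalk (genericPoint X) →ₛₗ[τ]
          (CohB1.tensorMod A' L').presheaf.stalk (genericPoint X')),
        Maps (CohB1.tensorMod A' L') (CohB1.tensorMod A L) R ∧
        Maps (CohB1.tensorMod A L) (CohB1.tensorMod A' L') T ∧ (∀ v, R (T v) = v) ∧ ∀ v, T (R v) = v :=
  ⟨isFinLocFree_tensorMod hA hL, isFinLocFree_tensorMod hA' hL', tensorMap P w, tensorMap Q z,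
    maps_tensorMap hP hw, maps_tensorMap hQ hz, tensorMap_tensorMap hPQ hwz, tensorMap_tensorMap hQP hzw⟩

/-- Comparisons pass to tensor powers. -/
theorem exists_comparison_tensorPow
    {σ : X'.presheaf.stalk (genericPoint X') →+* X.presheaf.stalk (genericPoint X)}
    {τ : X.presheaf.stalk (genericPoint X) →+* X'.presheaf.stalk (genericPoint X')}
    {L : X.Modules} {L' : X'.Modules} (hL : FlatMod.IsFinLocFree L) (hL' : FlatMod.IsFinLocFree L')
    (hστ : ∀ a, σ (τ a) = a) (hτσ : ∀ a, τ (σ a) = a)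
    {w : L'.presheaf.stalk (genericPoint X') →ₛₗ[σ] L.presheaf.stalk (genericPoint X)}
    {z : L.presheaf.stalk (genericPoint X) →ₛₗ[τ] L'.presheaf.stalk (genericPoint X')}
    (hw : Maps L' L w) (hz : Maps L L' z) (hwz : ∀ v, w (z v) = v) (hzw : ∀ v, z (w v) = v) :
    ∀ m : ℕ, FlatMod.IsFinLocFree (CohB1.tensorPow L m) ∧ FlatMod.IsFinLocFree (CohB1.tensorPow L' m) ∧
      ∃ (P : (CohB1.tensorPow L' m).presheaf.stalk (genericPoint X') →ₛₗ[σ]
          (CohB1.tensorPow L m).presheaf.stalk (genericPoint X))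
        (Q : (CohB1.tensorPow L m).presheaf.stalk (genericPoint X) →ₛₗ[τ]
          (CohB1.tensorPow L' m).presheaf.stalk (genericPoint X')),
        Maps (CohB1.tensorPow L' m) (CohB1.tensorPow L m) P ∧
        Maps (CohB1.tensorPow L m) (CohB1.tensorPow L' m) Q ∧ (∀ v, P (Q v) = v) ∧ ∀ v, Q (P v) = v
  | 0 => ⟨OX.isFinLocFree_structureModule X, OX.isFinLocFree_structureModule X', unitMap σ, unitMap τ,
      maps_unitMap, maps_unitMap, unitMap_unitMap hστ, unitMap_unitMap hτσ⟩
  | m + 1 => by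
    obtain ⟨hA, hA', P, Q, hP, hQ, hPQ, hQP⟩ := exists_comparison_tensorPow hL hL' hστ hτσ hw hz hwz hzw m
    exact exists_comparison_step (CohB1.tensorPow L m) (CohB1.tensorPow L' m) hA hA' hL hL' hP hQ hPQ hQP
      hw hz hwz hzw

/-- Data for two birational nonsingular proper varieties and their sheaves of forms. -/
theorem finrank_forms_eq [IsAlgClosed k] (n : ℕ)
    [IsProper (X ↘ Spec (CommRingCat.of k))] [IsProper (X' ↘ Spec (CommRingCat.of k))]
    (hreg : ∀ x : X, IsRegularLocalRing (X.presheaf.stalk x))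
    (hreg' : ∀ x : X', IsRegularLocalRing (X'.presheaf.stalk x))
    (hn : topologicalKrullDim X = n) (hn' : topologicalKrullDim X' = n)
    (U : X.Opens) (U' : X'.Opens) (hU : (U : Set X).Nonempty) (e : (U : Scheme.{u}) ≅ (U' : Scheme.{u}))
    (he : e.hom ≫ U'.ι ≫ (X' ↘ Spec (CommRingCat.of k)) = U.ι ≫ (X ↘ Spec (CommRingCat.of k)))
    (q : ℕ) (L : X.Modules) (hL : ExtPow.IsExtPow q (Omega.sheaf (X ↘ Spec (CommRingCat.of k))) L)
    (L' : X'.Modules) (hL' : ExtPow.IsExtPow q (Omega.sheaf (X' ↘ Spec (CommRingCat.of k))) L') :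
    Module.finrank k (Coh.HH X L 0) = Module.finrank k (Coh.HH X' L' 0) ∧
    ∀ m : ℕ, Module.finrank k (Coh.HH X (CohB1.tensorPow L m) 0) =
      Module.finrank k (Coh.HH X' (CohB1.tensorPow L' m) 0) := by
  let f := X ↘ Spec (CommRingCat.of k)
  let f' := X' ↘ Spec (CommRingCat.of k)
  haveI : IsLocallyNoetherian X := LocallyOfFiniteType.isLocallyNoetherian f
  haveI : IsLocallyNoetherian X' := LocallyOfFiniteType.isLocallyNoetherian f'
  have hX : Pi1.IsNormalScheme X := Goodman.normal_of_regular hreg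
  have hX' : Pi1.IsNormalScheme X' := Goodman.normal_of_regular hreg'
  have hd := Groth.Agent.S5005.result f
  have hd' := Groth.Agent.S5005.result f'
  have hΩ : FlatMod.IsFinLocFree (Omega.sheaf f) := FinCov.isFinLocFree_of_rank
    ((Groth.Agent.S12422.result k n X hn _ (OmegaSh.dOmega f) hd).2 hreg)
  have hΩ' : FlatMod.IsFinLocFree (Omega.sheaf f') := FinCov.isFinLocFree_of_rank
    ((Groth.Agent.S12422.result k n X' hn' _ (OmegaSh.dOmega f') hd').2 hreg')
  haveI : Nonempty (U : Scheme.{u}) := hU.to_subtype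
  haveI : IsIntegral (U : Scheme.{u}) := isIntegral_of_isOpenImmersion U.ι
  let g : (U : Scheme.{u}) ⟶ X' := e.hom ≫ U'.ι
  have hg : U.ι ≫ f = g ≫ f' := by simp only [g, Category.assoc]; exact he.symm
  let E := ffEquiv U.ι g
  let σ := E.toRingHom
  let τ := E.symm.toRingHom
  have hσ : OverBase f f' σ := overBase_ffEquiv U.ι g hg
  have hτ : OverBase f' f τ := by
    intro V c hV
    haveI : Subsingleton ↥(Spec (CommRingCat.of k)) := inferInstanceAs (Subsingleton (PrimeSpectrum k))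
    have hV' : genericPoint X' ∈ f' ⁻¹ᵁ V := by
      show f' (genericPoint X') ∈ V
      rw [Subsingleton.elim (f' (genericPoint X')) (f (genericPoint X))]
      exact hV
    obtain ⟨_, e'⟩ := hσ V c hV'
    exact ⟨hV', (congrArg E.symm e').symm.trans (E.symm_apply_apply _)⟩
  have hσk := map_constHom (X := X) (X' := X') k hσ
  have hdom := exists_below (X := X) (X' := X') k hX hσ
  have hdom' := exists_below (X := X') (X' := X) k hX' hτ
  have hστ : ∀ a, σ (τ a) = a := E.apply_symm_apply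
  have hτσ : ∀ a, τ (σ a) = a := E.symm_apply_apply
  let ψ := omegaMap hd' hσ (OmegaSh.dOmega f)
  let χ := omegaMap hd hτ (OmegaSh.dOmega f')
  have h1 : ∀ v, ψ (χ v) = v := omegaMap_omegaMap hd' hd hτ hσ hστ
  have h2 : ∀ v, χ (ψ v) = v := omegaMap_omegaMap hd hd' hσ hτ hτσ
  obtain ⟨i⟩ := ExtPowX.nonempty_iso (ExtPowX.isExtPow_wedge hΩ q) hL (Iso.refl _)
  obtain ⟨i'⟩ := ExtPowX.nonempty_iso (ExtPowX.isExtPow_wedge hΩ' q) hL' (Iso.refl _)
  have hLf := ExtPowX.isFinLocFree_extPow hΩ hL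
  have hLf' := ExtPowX.isFinLocFree_extPow hΩ' hL'
  let w : L'.presheaf.stalk (genericPoint X') →ₛₗ[σ] L.presheaf.stalk (genericPoint X) :=
    { toFun := fun v => RefHull.stalkMapₗ i.hom _ (wedgeMap q hΩ ψ (RefHull.stalkMapₗ i'.inv _ v))
      map_add' := fun a b => by rw [map_add, map_add, map_add]
      map_smul' := fun c a => by rw [map_smul, map_smulₛₗ, map_smul] }
  let z : L.presheaf.stalk (genericPoint X) →ₛₗ[τ] L'.presheaf.stalk (genericPoint X') :=
    { toFun := fun v => RefHull.stalkMapₗ i'.hom _ (wedgeMap q hΩ' χ (RefHull.stalkMapₗ i.inv _ v))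
      map_add' := fun a b => by rw [map_add, map_add, map_add]
      map_smul' := fun c a => by rw [map_smul, map_smulₛₗ, map_smul] }
  have cancel : ∀ {Y : Scheme.{u}} {A B : Y.Modules} (j : A ≅ B) (y : Y) (v : A.presheaf.stalk y),
      RefHull.stalkMapₗ j.inv y (RefHull.stalkMapₗ j.hom y v) = v := fun j y v => by
    rw [← LinearMap.comp_apply, ← stalkMapₗ_comp, j.hom_inv_id, stalkMapₗ_id]
    rfl
  have hw : Maps L' L w := fun x' x hb v => by
    obtain ⟨u, hu⟩ := maps_wedgeMap q hΩ (maps_omegaMap hd' hσ _) x' x hb (RefHull.stalkMapₗ i'.inv x' v)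
    refine ⟨RefHull.stalkMapₗ i.hom x u, ?_⟩
    show _ = RefHull.stalkMapₗ i.hom _ (wedgeMap q hΩ ψ (RefHull.stalkMapₗ i'.inv _ (sp L' (hη x') v)))
    rw [stalkMapₗ_sp, ← hu, stalkMapₗ_sp]
  have hz : Maps L L' z := fun x' x hb v => by
    obtain ⟨u, hu⟩ := maps_wedgeMap q hΩ' (maps_omegaMap hd hτ _) x' x hb (RefHull.stalkMapₗ i.inv x' v)
    refine ⟨RefHull.stalkMapₗ i'.hom x u, ?_⟩
    show _ = RefHull.stalkMapₗ i'.hom _ (wedgeMap q hΩ' χ (RefHull.stalkMapₗ i.inv _ (sp L (hη x') v)))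
    rw [stalkMapₗ_sp, ← hu, stalkMapₗ_sp]
  have hwz : ∀ v, w (z v) = v := fun v => by
    show RefHull.stalkMapₗ i.hom _ (wedgeMap q hΩ ψ (RefHull.stalkMapₗ i'.inv _ (RefHull.stalkMapₗ i'.hom _ _))) = v
    rw [cancel, wedgeMap_wedgeMap q hΩ' hΩ hστ h1]
    exact cancel i.symm _ v
  have hzw : ∀ v, z (w v) = v := fun v => by
    show RefHull.stalkMapₗ i'.hom _ (wedgeMap q hΩ' χ (RefHull.stalkMapₗ i.inv _ (RefHull.stalkMapₗ i.hom _ _))) = v
    rw [cancel, wedgeMap_wedgeMap q hΩ hΩ' hτσ h2]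
    exact cancel i'.symm _ v
  refine ⟨finrank_eq k hX hX' hLf hLf' hdom hdom' hσk hw hz hwz hzw, fun m => ?_⟩
  obtain ⟨hA, hA', P, Q, hP, hQ, hPQ, hQP⟩ := exists_comparison_tensorPow hLf hLf' hστ hτσ hw hz hwz hzw m
  exact finrank_eq k hX hX' hA hA' hdom hdom' hσk hP hQ hPQ hQP

end GrothLib.BiratH0
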