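import Groth.Agent.Lib.BiratH0.Model
import Groth.Agent.Lib.OmegaUniv.Stalk
import Groth.Agent.Lib.ExtPowX.Basic
import Groth.Agent.Lib.Ref1.Tensor
import Groth.Agent.Lib.Ref1.Unit
import Groth.Agent.Lib.OX.LocFreeTensor

/-!
# Comparisons for forms and tensor products
-/

set_option autoImplicit false
set_option linter.style.haveILetI false
set_option linter.unusedSectionVars false
set_option backward.isDefEq.respectTransparency false

universe u

open CategoryTheory Opposite AlgebraicGeometry TopologicalSpace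
open scoped TensorProduct

noncomputable section

namespace GrothLib.BiratH0

open Ref1

variable {X X' S : Scheme.{u}} [IsIntegral X] [IsIntegral X']
  {f : X ⟶ S} {f' : X' ⟶ S}
  {σ : X'.presheaf.stalk (genericPoint X') →+* X.presheaf.stalk (genericPoint X)}
  {τ : X.presheaf.stalk (genericPoint X) →+* X'.presheaf.stalk (genericPoint X')}

/-- `σ` commutes with the maps from the base. -/
def OverBase (f : X ⟶ S) (f' : X' ⟶ S)
    (σ : X'.presheaf.stalk (genericPoint X') →+* X.presheaf.stalk (genericPoint X)) : Prop :=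
  ∀ (V : S.Opens) (c : Γ(S, V)) (hV' : genericPoint X' ∈ f' ⁻¹ᵁ V), ∃ hV : genericPoint X ∈ f ⁻¹ᵁ V,
    σ (X'.presheaf.germ (f' ⁻¹ᵁ V) (genericPoint X') hV' (f'.app V c)) =
      X.presheaf.germ (f ⁻¹ᵁ V) (genericPoint X) hV (f.app V c)

section Omega

variable {Ω : X.Modules} {Ω' : X'.Modules} {d : OmegaSh.Der f Ω} {d' : OmegaSh.Der f' Ω'}

/-- The derivation `a ↦ d (σ a)`, into a skyscraper. -/
def compDer (hσ : OverBase f f' σ) (d : OmegaSh.Der f Ω) :
    OmegaSh.Der f' (OX.skyObj (genericPoint X')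
      ((ModuleCat.restrictScalars σ).obj (OX.stalkObj (genericPoint X) (DCoh.toP.obj Ω)))) where
  d {U} := AddMonoidHom.mk'
    (fun s => (fun h => OmegaUniv.stalkD (genericPoint X) d (σ (X'.presheaf.germ U.unop (genericPoint X') h.down s)) :
      OX.SkySec (genericPoint X')
        ((ModuleCat.restrictScalars σ).obj (OX.stalkObj (genericPoint X) (DCoh.toP.obj Ω))) U))
    (fun a b => funext fun h => by
      show OmegaUniv.stalkD _ d (σ (X'.presheaf.germ U.unop _ h.down (a + b))) =
        OmegaUniv.stalkD _ d _ + OmegaUniv.stalkD _ d _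
      rw [map_add, map_add]
      exact (OmegaUniv.stalkD_leibniz _ d _ _).2)
  d_mul {U} a b := funext fun h => by
    show OmegaUniv.stalkD _ d (σ (X'.presheaf.germ U.unop _ h.down (a * b))) =
      σ (X'.presheaf.germ U.unop _ h.down a) • OmegaUniv.stalkD _ d (σ (X'.presheaf.germ U.unop _ h.down b)) +
      σ (X'.presheaf.germ U.unop _ h.down b) • OmegaUniv.stalkD _ d (σ (X'.presheaf.germ U.unop _ h.down a))
    rw [map_mul, map_mul]
    exact (OmegaUniv.stalkD_leibniz _ d _ _).1
  d_map {U V} i s := funext fun h => by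
    show OmegaUniv.stalkD _ d (σ (X'.presheaf.germ V.unop _ h.down (X'.presheaf.map i s))) = _
    rw [TopCat.Presheaf.germ_res_apply' X'.presheaf i _ h.down s]
    rfl
  d_app {V} c := funext fun h => by
    obtain ⟨hV, e⟩ := hσ V.unop c h.down
    show OmegaUniv.stalkD _ d (σ (X'.presheaf.germ (f' ⁻¹ᵁ V.unop) _ h.down (f'.app V.unop c))) = 0
    rw [e, OmegaUniv.stalkD_germ]
    exact (congrArg (OX.germ (DCoh.toP.obj Ω) (f ⁻¹ᵁ V.unop) hV) (d.d_app c)).trans (map_zero _)

/-- The semilinear map of generic stalks of differentials induced by `σ`. -/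
def omegaMap (hd' : OmegaSh.IsUniversal d') (hσ : OverBase f f' σ) (d : OmegaSh.Der f Ω) :
    Ω'.presheaf.stalk (genericPoint X') →ₛₗ[σ] Ω.presheaf.stalk (genericPoint X) :=
  let L := ((OX.stalkHomEquiv (genericPoint X') (DCoh.toP.obj Ω') _).symm
    (DCoh.toP.map (hd' _ (compDer hσ d)).choose)).hom
  { toFun := fun v => L v
    map_add' := fun a b => map_add L a b
    map_smul' := fun r v => L.map_smul r v }

theorem omegaMap_dg (hd' : OmegaSh.IsUniversal d') (hσ : OverBase f f' σ) (d : OmegaSh.Der f Ω)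
    (U : X'.Opens) (hx : genericPoint X' ∈ U) (s : Γ(X', U)) :
    omegaMap hd' hσ d (OmegaUniv.dg d' U hx s) =
      OmegaUniv.stalkD (genericPoint X) d (σ (X'.presheaf.germ U (genericPoint X') hx s)) := by
  refine (OX.stalkDesc_germ _ U hx _).trans ?_
  exact congrFun (PresheafOfModules.Derivation.congr_d (hd' _ (compDer hσ d)).choose_spec.1 (X := op U) s) ⟨hx⟩

theorem sp_dg (d : OmegaSh.Der f Ω) {x : X} (U : X.Opens) (hx : x ∈ U) (s : Γ(X, U)) :
    sp Ω (hη x) (OmegaUniv.dg d U hx s) = OmegaUniv.dg d U ((hη x).mem_open U.2 hx) s :=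
  sp_germ Ω (hη x) hx _

theorem maps_omegaMap (hd' : OmegaSh.IsUniversal d') (hσ : OverBase f f' σ) (d : OmegaSh.Der f Ω) :
    Maps Ω' Ω (omegaMap hd' hσ d) := by
  intro x' x hb
  let P : Submodule (X'.presheaf.stalk x') (OmegaUniv.St x' Ω') :=
    { carrier := {v | omegaMap hd' hσ d (sp Ω' (hη x') v) ∈ Set.range (sp Ω (hη x))}
      add_mem' := fun {a b} ⟨u, hu⟩ ⟨w, hw⟩ => ⟨u + w, by
        rw [map_add, hu, hw, ← map_add, ← map_add]⟩
      zero_mem' := ⟨0, by rw [map_zero]; exact ((congrArg _ (map_zero (sp Ω' (hη x')))).trans (map_zero _)).symm⟩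
      smul_mem' := fun a v ⟨u, hu⟩ => by
        obtain ⟨b, hb'⟩ := hb a
        refine ⟨b • u, ?_⟩
        rw [sp_smul, hu, hb', ← map_smulₛₗ, ← sp_smul] }
  have htop : P = ⊤ := OmegaUniv.eq_top_of_dg_mem x' hd' P fun U hx s => by
    show omegaMap hd' hσ d (sp Ω' (hη x') (OmegaUniv.dg d' U hx s)) ∈ Set.range (sp Ω (hη x))
    rw [sp_dg, omegaMap_dg, ← spR_germ (hη x') hx s]
    obtain ⟨a, ha⟩ := hb (X'.presheaf.germ U x' hx s)
    rw [← ha]
    obtain ⟨V, hV, t, rfl⟩ := TopCat.Presheaf.exists_germ_eq X.presheaf a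
    exact ⟨OmegaUniv.dg d V hV t, by rw [sp_dg, spR_germ, OmegaUniv.stalkD_germ]⟩
  intro v
  exact (htop ▸ Submodule.mem_top : v ∈ P)

theorem omegaMap_omegaMap (hd : OmegaSh.IsUniversal d) (hd' : OmegaSh.IsUniversal d')
    (hσ : OverBase f f' σ) (hτ : OverBase f' f τ) (h : ∀ a, τ (σ a) = a)
    (v : Ω'.presheaf.stalk (genericPoint X')) :
    omegaMap hd hτ d' (omegaMap hd' hσ d v) = v := by
  let P : Submodule (X'.presheaf.stalk (genericPoint X')) (OmegaUniv.St (genericPoint X') Ω') :=
    { carrier := {v | omegaMap hd hτ d' (omegaMap hd' hσ d v) = v}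
      add_mem' := fun {a b} ha hb => by
        show omegaMap hd hτ d' (omegaMap hd' hσ d (a + b)) = a + b
        exact (congrArg _ (map_add (omegaMap hd' hσ d) a b)).trans ((map_add _ _ _).trans (congrArg₂ (· + ·) ha hb))
      zero_mem' := (congrArg _ (map_zero (omegaMap hd' hσ d))).trans (map_zero _)
      smul_mem' := fun a w hw => by
        show omegaMap hd hτ d' (omegaMap hd' hσ d (a • w)) = a • w
        refine (congrArg _ (map_smulₛₗ (omegaMap hd' hσ d) a w)).trans ((map_smulₛₗ _ _ _).trans ?_)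
        exact congrArg₂ (· • ·) (h a) hw }
  have htop : P = ⊤ := OmegaUniv.eq_top_of_dg_mem _ hd' P fun U hx s => by
    show omegaMap hd hτ d' (omegaMap hd' hσ d (OmegaUniv.dg d' U hx s)) = _
    rw [omegaMap_dg]
    obtain ⟨V, hV, t, e⟩ := TopCat.Presheaf.exists_germ_eq X.presheaf (σ (X'.presheaf.germ U _ hx s))
    rw [← e, OmegaUniv.stalkD_germ, omegaMap_dg, e, h, OmegaUniv.stalkD_germ]
  exact (htop ▸ Submodule.mem_top : v ∈ P)

end Omega

section Wedge

variable {E : X.Modules} {E' : X'.Modules} (q : ℕ)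

/-- Germs of sections as a semilinear map. -/
def germL (E : X.Modules) (x : X) (U : X.Opens) (hx : x ∈ U) :
    Γ(E, U) →ₛₗ[(X.presheaf.germ U x hx).hom] E.presheaf.stalk x where
  toFun := E.presheaf.germ U x hx
  map_add' := map_add (E.presheaf.germ U x hx).hom
  map_smul' c m := Mero.germ_smul E U x hx c m

/-- The exterior power of the generic stalk. -/
abbrev wedgeGen (E : X.Modules) : ModuleCat.{u} (X.presheaf.stalk (genericPoint X)) :=
  ModuleCat.of (X.presheaf.stalk (genericPoint X))
    ↥(⋀[X.presheaf.stalk (genericPoint X)]^q (E.presheaf.stalk (genericPoint X)))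

/-- Wedges of sections as wedges of generic germs, as a map of presheaves. -/
def thetaPre (E : X.Modules) : (show CohB1.PMod X from ExtPowX.wPre E q) ⟶
    OX.skyPreObj (genericPoint X) (wedgeGen q E) where
  app U := letI : Module (X.ringCatSheaf.obj.obj U) (OX.SkySec (genericPoint X) (wedgeGen q E) U) :=
      OX.skyModule (genericPoint X) (wedgeGen q E) U
    ModuleCat.ofHom (X := ((show CohB1.PMod X from ExtPowX.wPre E q).obj U))
    (Y := OX.SkySec (genericPoint X) (wedgeGen q E) U)
    { toFun := fun z h => ExtPowX.extMap q (germL E (genericPoint X) U.unop h.down) z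
      map_add' := fun a b => funext fun h => map_add (ExtPowX.extMap q (germL E (genericPoint X) U.unop h.down)) a b
      map_smul' := fun c a => funext fun h =>
        (ExtPowX.extMap q (germL E (genericPoint X) U.unop h.down)).map_smulₛₗ c a }
  naturality {U V} i := by
    refine ModuleCat.hom_ext (LinearMap.ext fun z => funext fun h => ?_)
    show ExtPowX.extMap q (germL E (genericPoint X) V.unop h.down) (ExtPowX.wRes E q (leOfHom i.unop) z) =
      ExtPowX.extMap q (germL E (genericPoint X) U.unop ((leOfHom i.unop) h.down)) z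
    have hz : z ∈ Submodule.span Γ(X, U.unop)
        (Set.range (exteriorPower.ιMulti Γ(X, U.unop) q (M := Γ(E, U.unop)))) := by
      rw [exteriorPower.ιMulti_span]; exact Submodule.mem_top
    induction hz using Submodule.span_induction with
    | mem y hy =>
      obtain ⟨w, rfl⟩ := hy
      rw [ExtPowX.wRes_ιMulti, ExtPowX.extMap_ιMulti, ExtPowX.extMap_ιMulti]
      refine congrArg _ (funext fun j => ?_)
      exact TopCat.Presheaf.germ_res_apply E.presheaf _ _ h.down _
    | zero => simp only [map_zero]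
    | add a b _ _ ha hb => rw [map_add, map_add, map_add, ha, hb]
    | smul c a _ ha =>
      rw [map_smulₛₗ, map_smulₛₗ, map_smulₛₗ, ha]
      exact congrArg (· • _) (TopCat.Presheaf.germ_res_apply X.presheaf _ _ h.down c)

/-- The sheaf form of `thetaPre`. -/
def thetaSh (E : X.Modules) : ExtPowX.wedge E q ⟶ OX.skyObj (genericPoint X) (wedgeGen q E) :=
  ((PresheafOfModules.sheafificationAdjunction (R := X.ringCatSheaf) (𝟙 X.ringCatSheaf.obj)).homEquiv
    (ExtPowX.wPre E q) (OX.skyObj (genericPoint X) (wedgeGen q E))).symm (thetaPre q E)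

/-- The generic stalk of the exterior power into the exterior power of the generic stalk. -/
def theta (E : X.Modules) : (ExtPowX.wedge E q).presheaf.stalk (genericPoint X) →ₗ[X.presheaf.stalk (genericPoint X)]
    ↥(⋀[X.presheaf.stalk (genericPoint X)]^q (E.presheaf.stalk (genericPoint X))) :=
  ((OX.stalkHomEquiv (genericPoint X) (DCoh.toP.obj (ExtPowX.wedge E q)) _).symm
    (DCoh.toP.map (thetaSh q E))).hom

theorem theta_germ (E : X.Modules) (U : X.Opens) (hU : genericPoint X ∈ U) (z : ↥(⋀[Γ(X, U)]^q Γ(E, U))) :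
    theta q E ((ExtPowX.wedge E q).presheaf.germ U (genericPoint X) hU (ExtPowX.eta E q U z)) =
      ExtPowX.extMap q (germL E (genericPoint X) U hU) z := by
  refine (OX.stalkDesc_germ _ U hU _).trans ?_
  have h := ((PresheafOfModules.sheafificationAdjunction (R := X.ringCatSheaf) (𝟙 X.ringCatSheaf.obj)).homEquiv
    (ExtPowX.wPre E q) (OX.skyObj (genericPoint X) (wedgeGen q E))).apply_symm_apply (thetaPre q E)
  rw [Adjunction.homEquiv_unit] at h
  exact congrFun (congrArg (fun (t : ExtPowX.wPre E q ⟶ _) => (t.app (op U)).hom z) h) ⟨hU⟩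

/-- Finitely many germs are represented on one open. -/
theorem exists_common (E : X.Modules) {x : X} {ι : Type*} [Finite ι] (v : ι → E.presheaf.stalk x) :
    ∃ (T : X.Opens) (hx : x ∈ T) (t : ι → Γ(E, T)), ∀ i, E.presheaf.germ T x hx (t i) = v i := by
  choose W hW s hs using fun i => TopCat.Presheaf.exists_germ_eq E.presheaf (v i)
  let T : X.Opens := ⟨⋂ i, (W i : Set X), isOpen_iInter_of_finite fun i => (W i).isOpen⟩
  have hT : ∀ i, T ≤ W i := fun i z hz => Set.mem_iInter.1 hz i
  refine ⟨T, Set.mem_iInter.2 hW, fun i => E.presheaf.map (homOfLE (hT i)).op (s i), fun i => ?_⟩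
  rw [TopCat.Presheaf.germ_res_apply, hs]

theorem surjective_theta (E : X.Modules) : Function.Surjective (theta q E) := by
  rw [← LinearMap.range_eq_top, eq_top_iff, ← exteriorPower.ιMulti_span, Submodule.span_le]
  rintro _ ⟨v, rfl⟩
  obtain ⟨T, hT, t, ht⟩ := exists_common E v
  refine ⟨(ExtPowX.wedge E q).presheaf.germ T _ hT (ExtPowX.eta E q T (exteriorPower.ιMulti _ q t)), ?_⟩
  rw [theta_germ, ExtPowX.extMap_ιMulti]
  exact congrArg _ (funext ht)

theorem bijective_theta {E : X.Modules} (hE : FlatMod.IsFinLocFree E) :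
    Function.Bijective (theta q E) := by
  obtain ⟨U, n, e, hU, he⟩ := FinCov.exists_frame_nhd hE (genericPoint X)
  let F := X.presheaf.stalk (genericPoint X)
  let bE : Module.Basis (Fin n) F (E.presheaf.stalk (genericPoint X)) :=
    Module.Basis.ofEquivFun (LinearEquiv.ofBijective _ (stalk_of_isFrame he (genericPoint X) hU)).symm
  let bW : Module.Basis _ F ((ExtPowX.wedge E q).presheaf.stalk (genericPoint X)) :=
    Module.Basis.ofEquivFun
      (LinearEquiv.ofBijective _ (stalk_of_isFrame (ExtPowX.isFrame_wedge he q) (genericPoint X) hU)).symm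
  let eT := (bE.exteriorPower q).equiv bW (Fintype.equivFin _)
  haveI : Module.Finite F ((ExtPowX.wedge E q).presheaf.stalk (genericPoint X)) := Module.Finite.of_basis bW
  have h : Function.Injective (eT.toLinearMap.comp (theta q E)) :=
    OrzechProperty.injective_of_surjective_endomorphism (eT.toLinearMap.comp (theta q E))
      (eT.surjective.comp (surjective_theta q E))
  exact ⟨fun a b hab => h (congrArg eT hab), surjective_theta q E⟩

/-- `theta` as an equivalence. -/
def thetaEquiv {E : X.Modules} (hE : FlatMod.IsFinLocFree E) :=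
  LinearEquiv.ofBijective (theta q E) (bijective_theta q hE)

/-- The exterior power of a comparison. -/
def wedgeMap (hE : FlatMod.IsFinLocFree E)
    (ψ : E'.presheaf.stalk (genericPoint X') →ₛₗ[σ] E.presheaf.stalk (genericPoint X)) :
    (ExtPowX.wedge E' q).presheaf.stalk (genericPoint X') →ₛₗ[σ]
      (ExtPowX.wedge E q).presheaf.stalk (genericPoint X) where
  toFun v := (thetaEquiv q hE).symm (ExtPowX.extMap q ψ (theta q E' v))
  map_add' a b := by rw [map_add, map_add, map_add]
  map_smul' c a := by rw [map_smul, map_smulₛₗ, map_smul]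

theorem theta_wedgeMap (hE : FlatMod.IsFinLocFree E)
    (ψ : E'.presheaf.stalk (genericPoint X') →ₛₗ[σ] E.presheaf.stalk (genericPoint X))
    (v : (ExtPowX.wedge E' q).presheaf.stalk (genericPoint X')) :
    theta q E (wedgeMap q hE ψ v) = ExtPowX.extMap q ψ (theta q E' v) :=
  (thetaEquiv q hE).apply_symm_apply _

theorem maps_wedgeMap (hE : FlatMod.IsFinLocFree E)
    {ψ : E'.presheaf.stalk (genericPoint X') →ₛₗ[σ] E.presheaf.stalk (genericPoint X)} (hψ : Maps E' E ψ) :
    Maps (ExtPowX.wedge E' q) (ExtPowX.wedge E q) (wedgeMap q hE ψ) := by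
  intro x' x hb v
  obtain ⟨U, hU, t, rfl⟩ := TopCat.Presheaf.exists_germ_eq (ExtPowX.wedge E' q).presheaf v
  obtain ⟨V, hVU, z, hxV, hz⟩ := ExtPowX.eta_locSurj E' q t x' hU
  rw [← TopCat.Presheaf.germ_res_apply (ExtPowX.wedge E' q).presheaf (homOfLE hVU) x' hxV t]
  change wedgeMap q hE ψ (sp _ (hη x')
    ((ExtPowX.wedge E' q).presheaf.germ V x' hxV (InvExt.mres (ExtPowX.wedge E' q) hVU t))) ∈ _
  rw [← hz]
  clear hz
  have hs : z ∈ Submodule.span Γ(X', V) (Set.range (exteriorPower.ιMulti Γ(X', V) q (M := Γ(E', V)))) := by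
    rw [exteriorPower.ιMulti_span]; exact Submodule.mem_top
  induction hs using Submodule.span_induction with
  | mem y hy =>
    obtain ⟨w, rfl⟩ := hy
    choose u hu using fun i => hψ x' x hb (E'.presheaf.germ V x' hxV (w i))
    obtain ⟨T, hT, s, hs⟩ := exists_common E u
    refine ⟨(ExtPowX.wedge E q).presheaf.germ T x hT (ExtPowX.eta E q T (exteriorPower.ιMulti _ q s)),
      (bijective_theta q hE).1 ?_⟩
    rw [theta_wedgeMap, sp_germ, sp_germ, theta_germ, theta_germ, ExtPowX.extMap_ιMulti, ExtPowX.extMap_ιMulti,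
      ExtPowX.extMap_ιMulti]
    refine congrArg _ (funext fun i => ?_)
    show E.presheaf.germ T _ _ (s i) = ψ (E'.presheaf.germ V _ _ (w i))
    rw [← sp_germ E (hη x) hT, hs, hu, sp_germ]
  | zero => exact ⟨0, by simp only [map_zero]⟩
  | add a b _ _ ha hb' =>
    obtain ⟨ua, hua⟩ := ha
    obtain ⟨ub, hub⟩ := hb'
    exact ⟨ua + ub, by simp only [map_add, hua, hub]⟩
  | smul c a _ ha =>
    obtain ⟨ua, hua⟩ := ha
    obtain ⟨b, hb'⟩ := hb (X'.presheaf.germ V x' hxV c)
    refine ⟨b • ua, ?_⟩
    rw [sp_smul, hua, hb', map_smul, Mero.germ_smul, sp_smul, map_smulₛₗ]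

theorem wedgeMap_wedgeMap (hE : FlatMod.IsFinLocFree E) (hE' : FlatMod.IsFinLocFree E')
    {ψ : E'.presheaf.stalk (genericPoint X') →ₛₗ[σ] E.presheaf.stalk (genericPoint X)}
    {χ : E.presheaf.stalk (genericPoint X) →ₛₗ[τ] E'.presheaf.stalk (genericPoint X')}
    (h : ∀ a, τ (σ a) = a) (hψ : ∀ v, χ (ψ v) = v)
    (v : (ExtPowX.wedge E' q).presheaf.stalk (genericPoint X')) :
    wedgeMap q hE' χ (wedgeMap q hE ψ v) = v := by
  refine (bijective_theta q hE').1 ?_
  rw [theta_wedgeMap, theta_wedgeMap]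
  generalize theta q E' v = z
  have hz : z ∈ Submodule.span (X'.presheaf.stalk (genericPoint X')) (Set.range (exteriorPower.ιMulti
      (X'.presheaf.stalk (genericPoint X')) q (M := E'.presheaf.stalk (genericPoint X')))) := by
    rw [exteriorPower.ιMulti_span]; exact Submodule.mem_top
  induction hz using Submodule.span_induction with
  | mem y hy =>
    obtain ⟨w, rfl⟩ := hy
    rw [ExtPowX.extMap_ιMulti, ExtPowX.extMap_ιMulti]
    exact congrArg _ (funext fun i => hψ (w i))
  | zero => simp only [map_zero]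
  | add a b _ _ ha hb => rw [map_add, map_add, ha, hb]
  | smul c a _ ha => rw [map_smulₛₗ, map_smulₛₗ, ha, h]

end Wedge

section Tensor

variable {M N : X.Modules} {M' N' : X'.Modules}

/-- The tensor product of comparisons. -/
def tensorMap (ψ : M'.presheaf.stalk (genericPoint X') →ₛₗ[σ] M.presheaf.stalk (genericPoint X))
    (φ : N'.presheaf.stalk (genericPoint X') →ₛₗ[σ] N.presheaf.stalk (genericPoint X)) :
    (CohB1.tensorMod M' N').presheaf.stalk (genericPoint X') →ₛₗ[σ]
      (CohB1.tensorMod M N).presheaf.stalk (genericPoint X) where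
  toFun v := (tensorStalk M N _).symm (TensorProduct.map ψ φ (tensorStalk M' N' _ v))
  map_add' a b := by rw [map_add, map_add, map_add]
  map_smul' c a := by rw [map_smul, map_smulₛₗ, map_smul]

theorem tensorMap_tmulStalk (ψ : M'.presheaf.stalk (genericPoint X') →ₛₗ[σ] M.presheaf.stalk (genericPoint X))
    (φ : N'.presheaf.stalk (genericPoint X') →ₛₗ[σ] N.presheaf.stalk (genericPoint X))
    (v : M'.presheaf.stalk (genericPoint X')) (w : N'.presheaf.stalk (genericPoint X')) :
    tensorMap ψ φ (tmulStalk M' N' _ v w) = tmulStalk M N _ (ψ v) (φ w) := by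
  show (tensorStalk M N _).symm (TensorProduct.map ψ φ (tensorStalk M' N' _ (tmulStalk M' N' _ v w))) = _
  rw [tensorStalk_tmulStalk, TensorProduct.map_tmul]
  rfl

/-- Every element of the stalk of a tensor product is a combination of products. -/
theorem tmul_induction (M N : X.Modules) {x : X} {P : (CohB1.tensorMod M N).presheaf.stalk x → Prop}
    (h0 : P 0) (h1 : ∀ v w, P (tmulStalk M N x v w)) (h2 : ∀ a b, P a → P b → P (a + b))
    (v : (CohB1.tensorMod M N).presheaf.stalk x) : P v := by
  obtain ⟨t, rfl⟩ := (tensorStalk M N x).symm.surjective v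
  induction t using TensorProduct.induction_on with
  | zero => rw [map_zero]; exact h0
  | tmul a b => exact h1 a b
  | add a b ha hb => rw [map_add]; exact h2 _ _ ha hb

theorem maps_tensorMap {ψ : M'.presheaf.stalk (genericPoint X') →ₛₗ[σ] M.presheaf.stalk (genericPoint X)}
    {φ : N'.presheaf.stalk (genericPoint X') →ₛₗ[σ] N.presheaf.stalk (genericPoint X)}
    (hψ : Maps M' M ψ) (hφ : Maps N' N φ) :
    Maps (CohB1.tensorMod M' N') (CohB1.tensorMod M N) (tensorMap ψ φ) := by
  intro x' x hb v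
  refine tmul_induction M' N' (P := fun v => tensorMap ψ φ (sp _ (hη x') v) ∈ Set.range (sp _ (hη x)))
    ⟨0, by simp only [map_zero]⟩ (fun a b => ?_) (fun a b ⟨u, hu⟩ ⟨w, hw⟩ => ⟨u + w, by simp only [map_add, hu, hw]⟩) v
  obtain ⟨u, hu⟩ := hψ x' x hb a
  obtain ⟨w, hw⟩ := hφ x' x hb b
  exact ⟨tmulStalk M N x u w, by rw [sp_tmulStalk, sp_tmulStalk, tensorMap_tmulStalk, hu, hw]⟩

theorem tensorMap_tensorMap {ψ : M'.presheaf.stalk (genericPoint X') →ₛₗ[σ] M.presheaf.stalk (genericPoint X)}
    {φ : N'.presheaf.stalk (genericPoint X') →ₛₗ[σ] N.presheaf.stalk (genericPoint X)}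
    {χ : M.presheaf.stalk (genericPoint X) →ₛₗ[τ] M'.presheaf.stalk (genericPoint X')}
    {ω : N.presheaf.stalk (genericPoint X) →ₛₗ[τ] N'.presheaf.stalk (genericPoint X')}
    (hψ : ∀ v, χ (ψ v) = v) (hφ : ∀ v, ω (φ v) = v)
    (v : (CohB1.tensorMod M' N').presheaf.stalk (genericPoint X')) :
    tensorMap χ ω (tensorMap ψ φ v) = v := by
  refine tmul_induction M' N' (P := fun v => tensorMap χ ω (tensorMap ψ φ v) = v)
    (by simp only [map_zero]) (fun a b => ?_) (fun a b ha hb => by simp only [map_add, ha, hb]) v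
  rw [tensorMap_tmulStalk, tensorMap_tmulStalk, hψ, hφ]

end Tensor

section Unit

/-- The comparison of structure sheaves. -/
def unitMap (σ : X'.presheaf.stalk (genericPoint X') →+* X.presheaf.stalk (genericPoint X)) :
    (Coh.structureModule X').presheaf.stalk (genericPoint X') →ₛₗ[σ]
      (Coh.structureModule X).presheaf.stalk (genericPoint X) where
  toFun v := HomSh.unitStalk _ (σ ((HomSh.unitStalk _).symm v))
  map_add' a b := by rw [map_add, map_add, map_add]
  map_smul' c a := by rw [map_smul, smul_eq_mul, map_mul, ← smul_eq_mul, map_smul]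

theorem maps_unitMap : Maps (Coh.structureModule X') (Coh.structureModule X) (unitMap σ) := by
  intro x' x hb v
  obtain ⟨a, rfl⟩ := (HomSh.unitStalk x').surjective v
  obtain ⟨b, hb'⟩ := hb a
  refine ⟨HomSh.unitStalk x b, ?_⟩
  rw [sp_unitStalk, sp_unitStalk, hb']
  exact congrArg _ (congrArg σ ((HomSh.unitStalk _).symm_apply_apply _).symm)

theorem unitMap_unitMap (h : ∀ a, τ (σ a) = a) (v : (Coh.structureModule X').presheaf.stalk (genericPoint X')) :
    unitMap τ (unitMap σ v) = v := by
  show HomSh.unitStalk _ (τ ((HomSh.unitStalk _).symm (HomSh.unitStalk _ (σ _)))) = v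
  rw [LinearEquiv.symm_apply_apply, h, LinearEquiv.apply_symm_apply]

end Unit

end GrothLib.BiratH0
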